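import Groth.Agent.RefNumLib.Linear
import Groth.Agent.DetModLib.Cartier
import Groth.Agent.RefHullLib.Reflexive

/-!
# Numbers of reflexive powers twisted by an invertible module
-/

set_option autoImplicit false
set_option linter.style.haveILetI false
universe u

open CategoryTheory CategoryTheory.Limits AlgebraicGeometry TopologicalSpace Opposite DevissLib

noncomputable section

namespace RefNumLib

open Ref1Lib (HasDiv)
open HilbPolyLib (swapIso assocIso congrLeft)

variable (k : Type u) [Field k] {X : Scheme.{u}} [X.Over (Spec (CommRingCat.of k))]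
  [IsProper (X ↘ Spec (CommRingCat.of k))] [IsIntegral X] [IsLocallyNoetherian X]

omit [X.Over (Spec (CommRingCat.of k))] [IsProper (X ↘ Spec (CommRingCat.of k))] in
/-- Tensoring with an invertible module preserves rank one reflexive modules and adds divisors. -/
theorem twist_ref1 (hX : Pi1.IsNormalScheme X) {L G : X.Modules} (hL : PicF.IsInvertible L)
    (hG : RefHull.IsRef1 G) {D E : X → ℤ} (hD : HasDiv L D) (hE : HasDiv G E) :
    RefHull.IsRef1 (CohB1.tensorMod L G) ∧ HasDiv (CohB1.tensorMod L G) (D + E) := by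
  have hL1 := Ref1Lib.isRef1_of_invertible hL
  have hc := Ref1Lib.isCoh_tensor hL1.1 hG.1
  have hrefl : RefHull.IsReflexive (CohB1.tensorMod L G) := (RefHullLib.isReflexive_iff hc).2 fun x => by
    obtain ⟨e⟩ := CurvLib.nonempty_stalk_tensor_locFree (CurvLib.locFree_of_isInvertible hL) G x
    haveI : Module.IsReflexive (X.presheaf.stalk x) ((St x).obj G) :=
      (RefHullLib.isReflexive_iff hG.1).1 hG.2.1 x
    let e' : (St x).obj (CohB1.tensorMod L G) ≃ₗ[X.presheaf.stalk x] (St x).obj G :=
      ((St x).mapIso (swapIso L G)).toLinearEquiv.trans (e.trans (LinearEquiv.funUnique (Fin 1) _ _))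
    exact Module.equiv e'.symm
  haveI : IsIso (RefHull.bidualMap (CohB1.tensorMod L G)) := hrefl
  have hd1 := Ref1Lib.isRef1_ddualTensor hL1 hG
  have hd := Ref1Lib.hasDiv_of_iso hX hd1 (asIso (RefHull.bidualMap (CohB1.tensorMod L G))).symm
    (Ref1Lib.hasDiv_ddualTensor hX hL1 hG hD hE)
  refine ⟨⟨hc, hrefl, ?_⟩, hd⟩
  obtain ⟨W, hη, σ, hσ⟩ := Ref1Lib.exists_genOn_of_genInvertible hd1.2.2
  exact Ref1Lib.genInvertible_of_genOn hη _
    (Ref1Lib.genOn_map (asIso (RefHull.bidualMap (CohB1.tensorMod L G))).inv hσ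
      fun x _ => (RefHullLib.isIso_iff_stalk _).1 inferInstance x)

omit [X.Over (Spec (CommRingCat.of k))] [IsProper (X ↘ Spec (CommRingCat.of k))] in
theorem refPow_div (hX : Pi1.IsNormalScheme X) {F : X.Modules} (hF : RefHull.IsRef1 F) {D : X → ℤ}
    (hD : HasDiv F D) : ∀ n : ℕ, HasDiv (RefPow.refPow F n) (fun x => (n : ℤ) * D x)
  | 0 => (congrArg (HasDiv (Coh.structureModule X)) (funext fun x => by simp)).mp Ref1Lib.hasDiv_unit
  | 1 => (congrArg (HasDiv F) (funext fun x => by simp)).mp hD
  | n + 2 => (congrArg (HasDiv (RefPow.refPow F (n + 2))) (funext fun x => by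
        simp only [Pi.add_apply]; push_cast; ring)).mp
      (Ref1Lib.hasDiv_ddualTensor hX (RefPowLib.isRef1_refPow hF (n + 1)) hF (refPow_div hX hF hD (n + 1)) hD)

/-- The number of an iterated twist by an invertible module. -/
theorem intNum_twists {r : ℕ} (hX : Pi1.IsNormalScheme X)
    (hdim : topologicalKrullDim X = ((r + 1 + 1 : ℕ) : WithBot ℕ∞))
    (M : Fin r → X.Modules) (hM : ∀ i, PicF.IsInvertible (M i)) {L A : X.Modules} (hL : PicF.IsInvertible L)
    (e : CohB1.tensorMod L A ≅ Coh.structureModule X) {G : X.Modules} (hG : RefHull.IsRef1 G)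
    {D E : X → ℤ} (hD : HasDiv L D) (hE : HasDiv G E) (m : ℕ) :
    RefHull.IsRef1 ((CohB1.tensorMod L)^[m] G) ∧
    HasDiv ((CohB1.tensorMod L)^[m] G) (fun x => (m : ℤ) * D x + E x) ∧
    2 * FGA.intNum k X (r + 1 + 1) M ((CohB1.tensorMod L)^[m] G) =
      2 * FGA.intNum k X (r + 1 + 1) M G +
        2 * (m : ℤ) * (FGA.intNum k X (r + 1 + 1) (Fin.cons A M) (Coh.structureModule X) +
          num k (Fin.cons A M) (r + 1 + 1) E) +
        (m : ℤ) * ((m : ℤ) + 1) * num k (Fin.cons A M) (r + 1 + 1) D := by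
  have hA : PicF.IsInvertible A := IntMultLib.isInvertible_of_inverse hL e
  have hM' : ∀ i, PicF.IsInvertible ((Fin.cons A M : Fin (r + 1) → X.Modules) i) :=
    Fin.cases (by simpa using hA) (fun i => by simpa using hM i)
  have hDf := finite_div k hX (Ref1Lib.isRef1_of_invertible hL) hD
  have hEf := finite_div k hX hG hE
  induction m with
  | zero => exact ⟨hG, (congrArg (HasDiv G) (funext fun x => by simp)).mp hE, by simp⟩
  | succ m ih =>
    obtain ⟨h1, h2, h3⟩ := ih
    rw [Function.iterate_succ_apply']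
    generalize (CohB1.tensorMod L)^[m] G = F at h1 h2 h3 ⊢
    obtain ⟨h1', h2'⟩ := twist_ref1 hX hL h1 hD h2
    refine ⟨h1', (congrArg (HasDiv (CohB1.tensorMod L F)) (funext fun x => by
      simp only [Pi.add_apply]; push_cast; ring)).mp h2', ?_⟩
    have hφ := intNum_eq_num k (r := r + 1) hX hdim (Fin.cons A M) hM' h1' h2'
    have hback : CohB1.tensorMod A (CohB1.tensorMod L F) ≅ F :=
      (assocIso A L F).symm ≪≫ congrLeft (swapIso A L ≪≫ e) F ≪≫ HilbPolyLib.unitLeft F
    rw [HilbPolyLib.intNum_cons hdim.le, HilbPolyLib.intNum_congr hdim.le M hback] at hφ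
    have hfin : ∀ c : ℤ, {x : X | Order.coheight x = 1 ∧ c * D x ≠ 0}.Finite := fun c =>
      hDf.subset fun x hx => ⟨hx.1, right_ne_zero_of_mul hx.2⟩
    have hmul : ∀ j : ℕ, num k (Fin.cons A M) (r + 1 + 1) (fun x => (j : ℤ) * D x) =
        (j : ℤ) * num k (Fin.cons A M) (r + 1 + 1) D := by
      intro j
      induction j with
      | zero => simp [num]
      | succ j ihj =>
        rw [show (fun x => ((j + 1 : ℕ) : ℤ) * D x) = (fun x => (j : ℤ) * D x) + D from
          funext fun x => by simp only [Pi.add_apply]; push_cast; ring,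
          num_add k _ _ (hfin _) hDf, ihj]
        push_cast
        ring
    rw [show (D + fun x => (m : ℤ) * D x + E x) = (fun x => ((m + 1 : ℕ) : ℤ) * D x) + E from
        funext fun x => by simp only [Pi.add_apply]; push_cast; ring,
      num_add k _ _ (hfin _) hEf, hmul] at hφ
    push_cast
    push_cast at hφ
    linarith

end RefNumLib

end
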