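import Groth.Agent.RefNumLib.Group
import Groth.Agent.HilbPolyLib.IntNum

/-!
# Alternating sums of twists, and classes in Grothendieck groups
-/

set_option autoImplicit false
set_option linter.style.haveILetI false
set_option linter.unusedSectionVars false
universe u v

open CategoryTheory CategoryTheory.Limits AlgebraicGeometry TopologicalSpace Opposite DevissLib

noncomputable section

namespace RefNumLib

open Ref1Lib (HasDiv)
open HilbPolyLib (congrLeft congrRight assocIso leftComm unitLeft swapIso isCoh_tensor support_tensor bExp)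
open CycK0Lib (P)

variable (k : Type u) [Field k] {X : Scheme.{u}} [X.Over (Spec (CommRingCat.of k))]
  [IsProper (X ↘ Spec (CommRingCat.of k))] [IsIntegral X] [IsLocallyNoetherian X]
  {A : Type v} [AddCommGroup A] {Φ : X.Modules → A}

theorem AddBelow.mono {r r' : ℕ} (h : AddBelow Φ r') (hr : r ≤ r') : AddBelow Φ r :=
  ⟨h.iso, h.add, fun M hM hlt => h.low M hM (lt_of_lt_of_le hlt (by exact_mod_cast hr))⟩

include k in
theorem eq_unit_of_low {r : ℕ} (hX : Pi1.IsNormalScheme X)
    (hdim : topologicalKrullDim X = ((r + 1 : ℕ) : WithBot ℕ∞)) (hΦ : AddBelow Φ (r + 1)) {F : X.Modules}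
    (hF : RefHull.IsRef1 F) : Φ F = Φ (Coh.structureModule X) := by
  classical
  obtain ⟨D, hD⟩ := Ref1Lib.exists_hasDiv hF
  rw [add_eq_gnum k hX hdim (hΦ.mono (Nat.le_succ r)) hF hD, gnum, finsum_eq_zero_of_forall_eq_zero, add_zero]
  intro x
  by_cases hd : topologicalKrullDim (closure ({x} : Set X)) = (r : WithBot ℕ∞)
  · rw [if_pos hd]
    haveI := CurvLib.isNoetherian k (X := X)
    obtain ⟨h0, hs, -⟩ := IntMultLib.generator x
    rw [hΦ.low _ h0 ?_, smul_zero]
    rw [hs, hd]
    exact_mod_cast Nat.lt_succ_self r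
  · rw [if_neg hd, smul_zero]

/-- The alternating sum over subsets of the twists. -/
def cube (Φ : X.Modules → A) {r : ℕ} (M : Fin r → X.Modules) (F : X.Modules) : A :=
  ∑ I : Finset (Fin r), ((-1 : ℤ) ^ I.card) •
    Φ (CohB1.tensorMod (FGA.tensorList ((I.sort (· ≤ ·)).map M)) F)

theorem cube_eq {r : ℕ} (hiso : ∀ G H : X.Modules, (G ≅ H) → Φ G = Φ H) (M : Fin r → X.Modules) (F : X.Modules) :
    cube Φ M F = ∑ b : Fin r → Bool, (∏ l, if b l then (-1 : ℤ) else 1) •
      Φ (CohB1.tensorMod (FGA.multiTwist M (bExp b)) F) := by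
  refine Fintype.sum_equiv (HilbPolyLib.subsetEquiv r) _ _ fun I => ?_
  obtain ⟨e⟩ := HilbPolyLib.nonempty_tensorList_sort M (HilbPolyLib.subsetEquiv r I)
  have hI : (Finset.univ.filter fun i => HilbPolyLib.subsetEquiv r I i = true) = I :=
    (HilbPolyLib.subsetEquiv r).left_inv I
  rw [hI] at e
  have hsgn : (∏ l, if HilbPolyLib.subsetEquiv r I l then (-1 : ℤ) else 1) = (-1 : ℤ) ^ I.card := by
    simp [HilbPolyLib.subsetEquiv, Finset.prod_ite, Finset.filter_mem_eq_inter]
  rw [hsgn, hiso _ _ (congrLeft e F)]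

theorem cube_cons {r : ℕ} (hiso : ∀ G H : X.Modules, (G ≅ H) → Φ G = Φ H) (B : X.Modules)
    (M : Fin r → X.Modules) (F : X.Modules) :
    cube Φ (Fin.cons B M : Fin (r + 1) → X.Modules) F = cube Φ M F - cube Φ M (CohB1.tensorMod B F) := by
  rw [cube_eq hiso, cube_eq hiso, cube_eq hiso]
  rw [← (Fin.consEquiv fun _ => Bool).sum_comp, Fintype.sum_prod_type, Fintype.sum_bool, sub_eq_add_neg,
    add_comm, ← Finset.sum_neg_distrib]
  congr 1
  · refine Finset.sum_congr rfl fun b _ => ?_
    have h1 : bExp (Fin.cons false b : Fin (r + 1) → Bool) = Fin.cons 0 (bExp b) := by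
      funext l
      induction l using Fin.cases <;> simp [bExp]
    simp only [Fin.consEquiv, Equiv.coe_fn_mk]
    rw [h1, Fin.prod_univ_succ, HilbPolyLib.multiTwist_cons]
    simp only [Fin.cons_zero, Fin.cons_succ, Bool.false_eq_true, ↓reduceIte, one_mul, CohB1.tensorPow]
    rw [hiso _ _ (congrLeft (unitLeft (FGA.multiTwist M (bExp b))) F)]
  · refine Finset.sum_congr rfl fun b _ => ?_
    have h1 : bExp (Fin.cons true b : Fin (r + 1) → Bool) = Fin.cons 1 (bExp b) := by
      funext l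
      induction l using Fin.cases <;> simp [bExp]
    simp only [Fin.consEquiv, Equiv.coe_fn_mk]
    rw [h1, Fin.prod_univ_succ, HilbPolyLib.multiTwist_cons]
    simp only [Fin.cons_zero, Fin.cons_succ, ↓reduceIte, CohB1.tensorPow]
    rw [hiso _ _ (congrLeft (congrLeft (unitLeft B) (FGA.multiTwist M (bExp b))) F ≪≫
      assocIso _ _ _ ≪≫ leftComm _ _ _), neg_one_mul, neg_smul]

theorem cube_iso {r : ℕ} (hiso : ∀ G H : X.Modules, (G ≅ H) → Φ G = Φ H) (M : Fin r → X.Modules)
    {F G : X.Modules} (e : F ≅ G) : cube Φ M F = cube Φ M G :=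
  Finset.sum_congr rfl fun I _ => congrArg _ (hiso _ _ (congrRight _ e))

include k in
/-- Each twist difference lowers the dimension by one. -/
theorem addBelow_cube {j : ℕ} (h : AddBelow Φ j) : ∀ {r : ℕ} (M : Fin r → X.Modules),
    (∀ i, PicF.IsInvertible (M i)) → AddBelow (cube Φ M) (r + j) := by
  intro r
  have hTI : ∀ {r : ℕ} (M : Fin r → X.Modules), (∀ i, PicF.IsInvertible (M i)) → ∀ I : Finset (Fin r),
      PicF.IsInvertible (FGA.tensorList ((I.sort (· ≤ ·)).map M)) := fun M hM I =>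
    HilbPolyLib.isInvertible_tensorList _ fun B hB => by
      obtain ⟨i, -, rfl⟩ := List.mem_map.mp hB
      exact hM i
  have hadd : ∀ {r : ℕ} (M : Fin r → X.Modules), (∀ i, PicF.IsInvertible (M i)) →
      ∀ S : ShortComplex X.Modules, S.ShortExact → Coh.IsCoh S.X₁ → Coh.IsCoh S.X₂ → Coh.IsCoh S.X₃ →
        cube Φ M S.X₂ = cube Φ M S.X₁ + cube Φ M S.X₃ := fun M hM S hS h₁ h₂ h₃ => by
    rw [cube, cube, cube, ← Finset.sum_add_distrib]
    refine Finset.sum_congr rfl fun I _ => ?_
    have hT := hTI M hM I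
    rw [← smul_add]
    exact congrArg _ (h.add _ (HilbPolyLib.shortExact_tensor hT hS) (isCoh_tensor hT h₁)
      (isCoh_tensor hT h₂) (isCoh_tensor hT h₃))
  induction r with
  | zero =>
    intro M hM
    refine ⟨fun F G e => cube_iso h.iso M e, hadd M hM, fun F hF hlt => ?_⟩
    refine Finset.sum_eq_zero fun I _ => ?_
    rw [h.low _ (isCoh_tensor (hTI M hM I) hF) (by rw [support_tensor (hTI M hM I)]; simpa using hlt), smul_zero]
  | succ r ih =>
    intro M hM
    refine ⟨fun F G e => cube_iso h.iso M e, hadd M hM, fun F hF hlt => ?_⟩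
    have hM' : ∀ i : Fin r, PicF.IsInvertible (Fin.tail M i) := fun i => hM _
    obtain ⟨hi, ha, hl⟩ := ih (Fin.tail M) hM'
    rw [← Fin.cons_self_tail M, cube_cons h.iso]
    have hT := isCoh_tensor (hM 0) hF
    rcases (CohB1.support F).eq_empty_or_nonempty with hemp | hne
    · have h0 : ∀ n : ℕ, topologicalKrullDim ↥(CohB1.support F) < (n : WithBot ℕ∞) := fun n =>
        IntFunLib.dim_lt_of_points (QCohLib.isClosed_support F hF.2) fun y hy => by
          rw [hemp] at hy; exact absurd hy (Set.notMem_empty y)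
      rw [hl F hF (h0 _), hl _ hT (by rw [support_tensor (hM 0)]; exact h0 _), sub_zero]
    have hd : topologicalKrullDim ↥(CohB1.support F) ≤ ((r + j : ℕ) : WithBot ℕ∞) :=
      ENat.WithBot.lt_add_one_iff.mp (by
        rw [show r + 1 + j = r + j + 1 by omega] at hlt
        exact_mod_cast hlt)
    obtain ⟨T, hT1, h1⟩ := IntMultLib.additive_eq_sum (k := k) (cube Φ (Fin.tail M)) hi ha hl
      (QCohLib.isClosed_support F hF.2) hne hd F hF le_rfl
    obtain ⟨T', hT2, h2⟩ := IntMultLib.additive_eq_sum (k := k) (cube Φ (Fin.tail M)) hi ha hl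
      (QCohLib.isClosed_support F hF.2) hne hd (CohB1.tensorMod (M 0) F) hT
      (support_tensor (hM 0) F).le
    have hTT : T = T' := Finset.ext fun ξ => (hT1 ξ).trans (hT2 ξ).symm
    subst hTT
    rw [h1, h2, sub_eq_zero]
    refine Finset.sum_congr rfl fun ξ _ => ?_
    congr 2
    obtain ⟨e⟩ := CurvLib.nonempty_stalk_tensor_locFree (CurvLib.locFree_of_isInvertible (hM 0)) F ξ
    exact (((St ξ).mapIso (swapIso (M 0) F)).toLinearEquiv.trans
      (e.trans (LinearEquiv.funUnique (Fin 1) _ _))).length_eq.symm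

section Delta

variable {δ : X → ℤ}

include k in
/-- A dimension function normalised at the generic point is the dimension of closures. -/
theorem delta_dim (hδ : Cyc.IsSetup X δ) {n : ℕ} (hdim : topologicalKrullDim X = (n : ℕ))
    (hη : δ (genericPoint X) = (n : ℕ)) (x : X) :
    ∃ m : ℕ, δ x = m ∧ m ≤ n ∧ topologicalKrullDim ↥(closure ({x} : Set X)) = (m : WithBot ℕ∞) := by
  let f := X ↘ Spec (CommRingCat.of k)
  have hηdim : UOpenLib.fibreClosureDim f (genericPoint X) = (n : WithBot ℕ∞) := by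
    rw [IntMultRegLib.fibreClosureDim_eq f, (genericPoint_spec X).def,
      (Homeomorph.Set.univ X).isHomeomorph.topologicalKrullDim_eq, hdim]
  have hs := RefHullLib.specializes_generic x
  obtain ⟨j, hj⟩ := EquidimLib.exists_dimBetween_eq_nat hs
  have hd := CycLimLib.delta_eq_add hδ hs hj
  obtain ⟨m, hm⟩ := UOpenLib.exists_fibreClosureDim_eq_nat f x
  have h := IntMultRegLib.fibreClosureDim_add f hs
  rw [hηdim, hm, hj] at h
  have h' : n = m + j := by exact_mod_cast h
  refine ⟨m, by rw [hη] at hd; push_cast [h'] at hd; omega, by omega, ?_⟩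
  rw [← IntMultRegLib.fibreClosureDim_eq f, hm]

theorem clSub_iso {D : X → Prop} (G H : X.Modules) (e : G ≅ H) :
    KZero.clSub (P D) G = KZero.clSub (P D) H := by
  by_cases hG : P D G
  · exact CycK0Lib.AddOn.iso CycK0Lib.addOn_clSub e hG
  · have hH : ¬ P D H := fun h => hG (h.of_iso e.symm)
    rw [KZero.clSub, dif_neg hG, KZero.clSub, dif_neg hH]

include k in
theorem addBelow_clSub (hδ : Cyc.IsSetup X δ) {n : ℕ} (hdim : topologicalKrullDim X = (n : ℕ))
    (hη : δ (genericPoint X) = (n : ℕ)) :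
    AddBelow (KZero.clSub (Cyc.CohLe δ ((n : ℕ) : ℤ))) 0 := by
  have hP : ∀ G : X.Modules, Coh.IsCoh G → P (fun x => δ x ≤ ((n : ℕ) : ℤ)) G := fun G hG =>
    P.mk hG fun x _ => by
      obtain ⟨m, hm, hle, -⟩ := delta_dim k hδ hdim hη x
      omega
  refine ⟨clSub_iso (D := fun x => δ x ≤ ((n : ℕ) : ℤ)),
    fun S hS h₁ h₂ h₃ => CycK0Lib.addOn_clSub.add S hS (hP _ h₁) (hP _ h₂) (hP _ h₃), fun M hM hlt => ?_⟩
  refine CycK0Lib.AddOn.zero CycK0Lib.addOn_clSub ((KFlatLib.isZero_iff_forall_stalk M).2 fun x => ?_)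
  haveI : Subsingleton (M.presheaf.stalk x) := not_not.1 fun h => by
    obtain ⟨m, hm, -, hd⟩ := delta_dim k hδ hdim hη x
    have hx : x ∈ CohB1.support M := h
    have h1 : topologicalKrullDim ↥(closure ({x} : Set X)) ≤ topologicalKrullDim ↥(CohB1.support M) :=
      (Topology.IsEmbedding.inclusion (closure_minimal (Set.singleton_subset_iff.2 hx)
        (QCohLib.isClosed_support M hM.2))).isInducing.topologicalKrullDim_le
    rw [hd] at h1
    exact absurd (lt_of_le_of_lt h1 hlt) (by simp)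
  haveI : Subsingleton ↑((DerSch.stalkFunctor X x).obj M) := ‹Subsingleton (M.presheaf.stalk x)›
  exact ModuleCat.isZero_of_subsingleton _

include k in
theorem addBelow_toK0CohQuot (hδ : Cyc.IsSetup X δ) {n : ℕ} (hdim : topologicalKrullDim X = (n : ℕ))
    (hη : δ (genericPoint X) = (n : ℕ)) (b : ℕ) :
    AddBelow (Cyc.toK0CohQuot δ ((n : ℕ) : ℤ) ((b : ℕ) : ℤ)) (b + 1) := by
  obtain ⟨hi, ha, -⟩ := addBelow_clSub k hδ hdim hη
  refine ⟨fun G H e => congrArg QuotientAddGroup.mk (hi G H e), fun S hS h₁ h₂ h₃ =>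
    (congrArg QuotientAddGroup.mk (ha S hS h₁ h₂ h₃)).trans (QuotientAddGroup.mk_add _ _ _), fun M hM hlt => ?_⟩
  refine CycK0Lib.toK0CohQuot_kills δ _ _ M (P.mk hM fun x hx => ?_)
  obtain ⟨m, hm, -, hd⟩ := delta_dim k hδ hdim hη x
  have h1 : topologicalKrullDim ↥(closure ({x} : Set X)) ≤ topologicalKrullDim ↥(CohB1.support M) :=
    (Topology.IsEmbedding.inclusion (closure_minimal (Set.singleton_subset_iff.2 hx)
      (QCohLib.isClosed_support M hM.2))).isInducing.topologicalKrullDim_le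
  rw [hd] at h1
  have h2 := lt_of_le_of_lt h1 hlt
  have : m < b + 1 := by exact_mod_cast h2
  omega

end Delta

end RefNumLib

end
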