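import Groth.Agent.RefPowLib.Basic
import Groth.Agent.S16087
import Groth.Agent.IntMultLib.Components
import Groth.Agent.HilbPolyLib.IntNum
import Groth.Agent.CycIntLib.Main
import Groth.Agent.DetModLib.Main
import Groth.Agent.RpushLib.FlatPull
import Groth.Agent.QCohLib.Gen
import Groth.Agent.S10830

/-!
# Intersection numbers of rank one reflexive modules with `dim - 1` invertible modules are affine in the divisor
-/

set_option autoImplicit false
set_option linter.style.haveILetI false
universe u

open CategoryTheory CategoryTheory.Limits AlgebraicGeometry TopologicalSpace Opposite DevissLib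

noncomputable section

namespace RefNumLib

open RefHullLib (specializes_generic mem_of_nonempty)
open Ref1Lib (spec spec_germ spec_smul spec_map FreeGen tp HasDiv)

variable (k : Type u) [Field k] {X : Scheme.{u}} [X.Over (Spec (CommRingCat.of k))]
  [IsProper (X ↘ Spec (CommRingCat.of k))] [IsIntegral X] [IsLocallyNoetherian X]

open scoped Classical in
/-- The weight of a point: the number of its closure, if of the right dimension. -/
def coef {r : ℕ} (M : Fin r → X.Modules) (N : ℕ) (x : X) : ℤ :=
  if topologicalKrullDim (closure ({x} : Set X)) = (r : WithBot ℕ∞) then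
    FGA.intNum k X N M (ClSub.quotMod (IntMultLib.ptIdeal x)) else 0

open scoped Classical in
/-- The number of a divisor. -/
def num {r : ℕ} (M : Fin r → X.Modules) (N : ℕ) (D : X → ℤ) : ℤ :=
  ∑ᶠ x, (if Order.coheight x = 1 then D x else 0) * coef k M N x

theorem coheight_eq_one_of_dim {r : ℕ} (hdim : topologicalKrullDim X = ((r + 1 : ℕ) : WithBot ℕ∞)) {x : X}
    (hx : topologicalKrullDim (closure ({x} : Set X)) = (r : WithBot ℕ∞)) : Order.coheight x = 1 := by
  have hne : x ≠ genericPoint X := fun h => by
    have hu : closure ({x} : Set X) = Set.univ := by rw [h]; exact (genericPoint_spec X).def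
    rw [hu, (Homeomorph.Set.univ X).isHomeomorph.topologicalKrullDim_eq, hdim] at hx
    exact absurd (by exact_mod_cast hx : r + 1 = r) (by omega)
  have hlt : x < genericPoint X := lt_iff_le_not_ge.2
    ⟨specializes_generic x, fun h => hne (Specializes.antisymm h (specializes_generic x)).eq⟩
  refine le_antisymm ?_ (Order.one_le_iff_pos.2 (Order.coheight_pos.2 fun h => hlt.not_ge (h hlt.le)))
  refine Order.coheight_le fun p hp => ?_
  rcases Nat.lt_or_ge p.length 2 with h2 | h2
  · exact_mod_cast (show p.length ≤ 1 by omega)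
  exfalso
  let i1 : Fin (p.length + 1) := ⟨1, by omega⟩
  have h01 : x < p i1 := lt_of_le_of_lt hp.ge (p.strictMono (show (0 : Fin (p.length + 1)) < i1 from Fin.lt_def.2 Nat.zero_lt_one))
  have hneq : closure ({p i1} : Set X) ≠ Set.univ := fun h => by
    have hg : IsGenericPoint (p i1) (Set.univ : Set X) := h
    have he := hg.eq (genericPoint_spec X)
    have h12 : p i1 < p (Fin.last _) := p.strictMono (Fin.mk_lt_mk.2 (by omega))
    exact absurd (specializes_generic (p (Fin.last _)) : p (Fin.last _) ≤ genericPoint X) (by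
      rw [← he]; exact h12.not_ge)
  have hss : closure ({x} : Set X) ⊆ closure ({p i1} : Set X) :=
    closure_minimal (Set.singleton_subset_iff.2 (specializes_iff_mem_closure.1 h01.le)) isClosed_closure
  haveI : IrreducibleSpace ↥(closure ({p i1} : Set X)) :=
    Subtype.irreducibleSpace isIrreducible_singleton.closure
  have hfinX : topologicalKrullDim X ≠ ⊤ := by
    rw [hdim]; exact WithBot.coe_injective.ne (ENat.coe_ne_top _)
  have hA := Groth.Agent.S10830.result X hfinX _ isClosed_closure hneq
  have hB := Groth.Agent.S10830.result ↥(closure ({p i1} : Set X)) (ne_top_of_lt hA)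
    (Subtype.val ⁻¹' closure ({x} : Set X)) (isClosed_closure.preimage continuous_subtype_val) (fun h => by
      have hmem : (⟨p i1, subset_closure rfl⟩ : ↥(closure ({p i1} : Set X))) ∈
          (Subtype.val ⁻¹' closure ({x} : Set X)) := by rw [h]; trivial
      exact h01.not_ge (specializes_iff_mem_closure.2 hmem))
  have hC : topologicalKrullDim ↥(Subtype.val ⁻¹' closure ({x} : Set X) : Set ↥(closure ({p i1} : Set X))) =
      topologicalKrullDim (closure ({x} : Set X)) :=
    ((Homeomorph.mk
      { toFun := fun z => ⟨z.1.1, z.2⟩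
        invFun := fun z => ⟨⟨z.1, hss z.2⟩, z.2⟩
        left_inv := fun _ => rfl
        right_inv := fun _ => rfl }).isHomeomorph.topologicalKrullDim_eq)
  rw [hC, hx] at hB
  rw [hdim] at hA
  generalize topologicalKrullDim ↥(closure ({p i1} : Set X)) = d at hA hB
  cases d with
  | bot => exact not_lt_bot hB
  | coe d =>
    cases d with
    | top => exact absurd hA (by simp)
    | coe d =>
      have h1 : r < d := by exact_mod_cast hB
      have h2' : d < r + 1 := by exact_mod_cast hA
      omega

include k in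
theorem finite_div (hX : Pi1.IsNormalScheme X) {F : X.Modules} (hF : RefHull.IsRef1 F) {D : X → ℤ}
    (h : HasDiv F D) : {x : X | Order.coheight x = 1 ∧ D x ≠ 0}.Finite := by
  obtain ⟨v, hv, hD⟩ := h
  obtain ⟨Z, -, hZ⟩ := (Groth.Agent.S16087.result X hX).1 F hF (Submodule.Quotient.mk v)
    (fun h0 => hv (Ref1Lib.mk_injective F h0))
  refine (CycIntLib.cycle_finite k Z).subset fun x hx => ?_
  rw [Function.mem_support, hZ x hx.1, hD x hx.1]
  exact hx.2

theorem finite_num {r : ℕ} (M : Fin r → X.Modules) (N : ℕ) {D : X → ℤ}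
    (h : {x : X | Order.coheight x = 1 ∧ D x ≠ 0}.Finite) [DecidablePred fun x : X => Order.coheight x = 1] :
    (Function.support fun x => (if Order.coheight x = 1 then D x else 0) * coef k M N x).Finite :=
  h.subset fun x hx => by
    have := left_ne_zero_of_mul hx
    split_ifs at this with h'
    · exact ⟨h', this⟩
    · exact absurd rfl this

theorem num_add {r : ℕ} (M : Fin r → X.Modules) (N : ℕ) {D E : X → ℤ}
    (hD : {x : X | Order.coheight x = 1 ∧ D x ≠ 0}.Finite)
    (hE : {x : X | Order.coheight x = 1 ∧ E x ≠ 0}.Finite) :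
    num k M N (D + E) = num k M N D + num k M N E := by
  classical
  rw [num, num, num, ← finsum_add_distrib (finite_num k M N hD) (finite_num k M N hE)]
  refine finsum_congr fun x => ?_
  rw [← add_mul]
  split_ifs <;> simp

theorem num_congr {r : ℕ} (M : Fin r → X.Modules) (N : ℕ) {D E : X → ℤ}
    (h : ∀ x : X, Order.coheight x = 1 → D x = E x) : num k M N D = num k M N E := by
  classical
  refine finsum_congr fun x => ?_
  split_ifs with hx
  · rw [h x hx]
  · rfl

/-- A map which is generically bijective and given by `g` at codimension one changes the number by the orders of `g`. -/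
theorem intNum_of_map {r : ℕ} (hdim : topologicalKrullDim X = ((r + 1 : ℕ) : WithBot ℕ∞))
    (M : Fin r → X.Modules) (hM : ∀ i, PicF.IsInvertible (M i)) {F G : X.Modules} (hF : RefHull.IsRef1 F)
    (hG : RefHull.IsRef1 G) (ι : F ⟶ G)
    (hη : Function.Bijective (RefHull.stalkMapₗ ι (genericPoint X))) (E : X → ℤ)
    (hloc : ∀ x : X, Order.coheight x = 1 → ∃ t T g, FreeGen F x t ∧ FreeGen G x T ∧ g ≠ 0 ∧
      RefHull.stalkMapₗ ι x t = g • T ∧ E x = Scheme.ord (algebraMap (X.presheaf.stalk x) X.functionField g) x) :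
    FGA.intNum k X (r + 1) M G = FGA.intNum k X (r + 1) M F + num k M (r + 1) E := by
  classical
  have hN : topologicalKrullDim X ≤ ((r + 1 : ℕ) : WithBot ℕ∞) := hdim.le
  haveI : Mono ι := RpushLib.mono_of_stalks ι fun x => (ModuleCat.mono_iff_injective _).2 fun a b h => by
    refine Ref1Lib.spec_injective hF x (hη.1 ?_)
    exact ((spec_map ι x a).symm.trans (congrArg (spec G x) h)).trans (spec_map ι x b)
  let Q := cokernel ι
  let S := ShortComplex.mk ι (cokernel.π ι) (cokernel.condition ι)
  have hex : S.Exact := ShortComplex.exact_cokernel ι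
  have hS : S.ShortExact := { exact := hex }
  have hQ : Coh.IsCoh Q := QCohLib.isCoh_cokernel ι hF.1.1 hG.1
  have hst := fun x => DetModLib.stalk_exact ι (cokernel.π ι) (cokernel.condition ι) hex x
  have hkey : FGA.intNum k X (r + 1) M Q = num k M (r + 1) E := by
    have hQη : Subsingleton (Q.presheaf.stalk (genericPoint X)) := ⟨fun a b => by
      obtain ⟨a, rfl⟩ := (hst _).1 a
      obtain ⟨b, rfl⟩ := (hst _).1 b
      obtain ⟨a, rfl⟩ := hη.2 a
      obtain ⟨b, rfl⟩ := hη.2 b
      rw [← RefHullLib.stalkMap_comp, ← RefHullLib.stalkMap_comp, cokernel.condition,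
        show RefHull.stalkMapₗ (0 : F ⟶ Q) (genericPoint X) = 0 from ?_]
      · rfl
      · ext v
        exact congrArg (fun f => f.hom v) ((DerSch.stalkFunctor X (genericPoint X)).map_zero F Q)⟩
    have hlen : ∀ x : X, Order.coheight x = 1 → ((IntMultLib.len Q x).toNat : ℤ) = E x := by
      intro x hx
      obtain ⟨t, T, g, ht, hT, hg0, hιt, hE⟩ := hloc x hx
      let π : X.presheaf.stalk x →ₗ[X.presheaf.stalk x] Q.presheaf.stalk x :=
        (RefHull.stalkMapₗ (cokernel.π ι) x).comp (LinearMap.toSpanSingleton _ _ T)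
      have hπ : Function.Surjective π := (hst x).1.comp hT.2
      have hker : LinearMap.ker π = (Ideal.span {g} : Ideal (X.presheaf.stalk x)) := by
        ext c
        constructor
        · intro hc
          obtain ⟨u, hu⟩ := (hst x).2 _ (LinearMap.mem_ker.1 hc)
          obtain ⟨a, rfl⟩ := ht.2 u
          rw [map_smul, hιt, smul_smul] at hu
          exact Ideal.mem_span_singleton'.2 ⟨a, hT.1 hu⟩
        · intro hc
          obtain ⟨a, rfl⟩ := Ideal.mem_span_singleton'.1 hc
          refine LinearMap.mem_ker.2 ?_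
          show RefHull.stalkMapₗ (cokernel.π ι) x ((a * g) • T) = 0
          rw [mul_smul, ← hιt, map_smul, ← RefHullLib.stalkMap_comp, cokernel.condition,
            show RefHull.stalkMapₗ (0 : F ⟶ Q) x = 0 from ?_, LinearMap.zero_apply, smul_zero]
          ext v
          exact congrArg (fun f => f.hom v) ((DerSch.stalkFunctor X x).map_zero F Q)
      rw [hE, DetModLib.ord_algebraMap hx hg0, IntMultLib.len,
        ← (π.quotKerEquivOfSurjective hπ).length_eq, hker]
      rfl
    have hdimQ : topologicalKrullDim ↥(CohB1.support Q) ≤ ((r : ℕ) : WithBot ℕ∞) := by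
      have h1 := Groth.Agent.S10830.result X (by rw [hdim]; exact WithBot.coe_injective.ne (ENat.coe_ne_top _))
        _ (QCohLib.isClosed_support Q hQ.2) fun h => by
          have : genericPoint X ∈ CohB1.support Q := by rw [h]; trivial
          exact this hQη
      rw [hdim] at h1
      exact ENat.WithBot.lt_add_one_iff.mp (by exact_mod_cast h1)
    rcases (CohB1.support Q).eq_empty_or_nonempty with hemp | hne
    · rw [HilbPolyLib.intNum_eq_zero hN M hM Q hQ (IntFunLib.dim_lt_of_points (QCohLib.isClosed_support Q hQ.2)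
        fun y hy => by rw [hemp] at hy; exact absurd hy (Set.notMem_empty y)), num,
        finsum_eq_zero_of_forall_eq_zero]
      intro x
      split_ifs with hx
      · have : Subsingleton (Q.presheaf.stalk x) := not_not.1 fun h => by
          have : x ∈ CohB1.support Q := h
          rw [hemp] at this
          exact this
        rw [← hlen x hx, IntMultLib.len, Module.length_eq_zero]
        simp
      · rw [zero_mul]
    obtain ⟨T, hT, hsum⟩ := IntMultLib.additive_eq_sum (k := k) (fun G => FGA.intNum k X (r + 1) M G)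
      (fun A B e => HilbPolyLib.intNum_congr hN M e) (fun S hS h₁ h₂ h₃ => CycIntLib.intNum_add hN hM hS h₁ h₂ h₃)
      (fun G hG h => HilbPolyLib.intNum_eq_zero hN M hM G hG h)
      (QCohLib.isClosed_support Q hQ.2) hne hdimQ Q hQ le_rfl
    rw [hsum, num, finsum_eq_sum_of_support_subset _ (s := T) fun x hx => ?_]
    · refine Finset.sum_congr rfl fun x hx => ?_
      obtain ⟨-, hxd⟩ := (hT x).1 hx
      have hx1 := coheight_eq_one_of_dim hdim hxd
      rw [nsmul_eq_mul, if_pos hx1, coef, if_pos hxd, ← hlen x hx1]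
    · have h1 := left_ne_zero_of_mul hx
      have h2 := right_ne_zero_of_mul hx
      split_ifs at h1 with hx1
      · have hd : topologicalKrullDim (closure ({x} : Set X)) = (r : WithBot ℕ∞) := by
          by_contra hd
          exact h2 (if_neg hd)
        refine Finset.mem_coe.2 ((hT x).2 ⟨?_, hd⟩)
        intro h0
        haveI : Subsingleton (Q.presheaf.stalk x) := h0
        rw [← hlen x hx1, IntMultLib.len, Module.length_eq_zero] at h1
        simp at h1
      · exact absurd rfl h1
  have hsum : FGA.intNum k X (r + 1) M S.X₂ = FGA.intNum k X (r + 1) M S.X₁ + FGA.intNum k X (r + 1) M S.X₃ :=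
    CycIntLib.intNum_add hN hM hS hF.1 hG.1 hQ
  exact hsum.trans (congrArg (FGA.intNum k X (r + 1) M F + ·) hkey)

/-- The number is affine in the divisor. -/
theorem intNum_eq_num {r : ℕ} (hX : Pi1.IsNormalScheme X)
    (hdim : topologicalKrullDim X = ((r + 1 : ℕ) : WithBot ℕ∞))
    (M : Fin r → X.Modules) (hM : ∀ i, PicF.IsInvertible (M i)) {F : X.Modules} (hF : RefHull.IsRef1 F)
    {D : X → ℤ} (hD : HasDiv F D) :
    FGA.intNum k X (r + 1) M F = FGA.intNum k X (r + 1) M (Coh.structureModule X) + num k M (r + 1) D := by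
  classical
  -- multiplication by a section with effective divisor
  have step : ∀ {F : X.Modules}, RefHull.IsRef1 F → ∀ {G : X.Modules}, RefHull.IsRef1 G → ∀ {E : X → ℤ},
      HasDiv G E → (∀ x : X, Order.coheight x = 1 → 0 ≤ E x) →
      FGA.intNum k X (r + 1) M (RefPow.refTensor F G) = FGA.intNum k X (r + 1) M F + num k M (r + 1) E := by
    intro F hF G hG E hE hE0
    obtain ⟨v, hv, hvE⟩ := hE
    have hlat : ∀ x ∈ (⊤ : X.Opens), Order.coheight x = 1 → v ∈ Set.range (spec G x) := fun x _ hx => by
      obtain ⟨t, ht⟩ := Ref1Lib.exists_freeGen hX hG hx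
      obtain ⟨φ, hφ⟩ := Ref1Lib.exists_eq_smul_spec hG (Ref1Lib.freeGen_ne_zero ht) v
      have hφ0 : φ ≠ 0 := fun h0 => hv (by rw [hφ, h0]; exact zero_smul _ _)
      have h := Ref1Lib.secOrdAt_free G hx (specializes_generic x) hv ht hφ
      rw [hvE x hx] at h
      obtain ⟨a, ha⟩ := CDivCoreLib.reg_of_ord_nonneg hX hx hφ0 (by rw [← h]; exact hE0 x hx)
      exact ⟨a • t, by rw [spec_smul, ha, hφ]⟩
    obtain ⟨σ, hσ⟩ := RefPowLib.exists_section_of_lattice hG hX v hlat
    let s : Coh.structureModule X ⟶ G := QCohLib.unitHom G σ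
    have hs : ∀ x : X, RefPowLib.sGerm s x = G.presheaf.germ ⊤ x trivial σ := fun x => by
      refine congrArg (G.presheaf.germ ⊤ x trivial) ?_
      refine (QCohLib.unitHom_app G σ ⊤ (1 : Γ(X, ⊤))).trans ((one_smul _ _).trans ?_)
      exact congrArg (fun f => f σ) (G.presheaf.map_id (op ⊤))
    have hsη : RefPowLib.sGerm s (genericPoint X) = v := (hs _).trans (hσ trivial)
    let ι : F ⟶ RefPow.refTensor F G :=
      (SecTwist.unitorR F).inv ≫ KoszTw.tensorMap (𝟙 F) s ≫ RefPow.toRefTensor F G
    have hι : ∀ (x : X) (t : F.presheaf.stalk x), RefHull.stalkMapₗ ι x t =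
        RefHull.stalkMapₗ (RefPow.toRefTensor F G) x (tp F G x t (RefPowLib.sGerm s x)) := by
      intro x t
      obtain ⟨U, hx, m, rfl⟩ := TopCat.Presheaf.exists_germ_eq F.presheaf (x := x) t
      have hv' : RefPowLib.sGerm s x = G.presheaf.germ U x hx (SecTwist.val s U) :=
        ((TopCat.Presheaf.germ_res_apply G.presheaf (homOfLE (le_top : U ≤ ⊤)) x hx (SecTwist.val s ⊤)).symm.trans
          (congrArg (G.presheaf.germ U x hx) (SecTwist.map_val s (homOfLE (le_top : U ≤ ⊤)))))
      rw [hv', Ref1Lib.tp_germ, RefHull.stalkMapₗ_germ, RefHull.stalkMapₗ_germ]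
      refine congrArg ((RefPow.refTensor F G).presheaf.germ U x hx) ?_
      rw [Scheme.Modules.Hom.comp_app, Scheme.Modules.Hom.comp_app]
      change (RefPow.toRefTensor F G).app U ((KoszTw.tensorMap (𝟙 F) s).app U
        ((SecTwist.unitorR F).inv.app U m)) = _
      rw [RefPow.unitorR_inv_app, KoszTw.tensorMap_tmul, Scheme.Modules.Hom.id_app]
      rfl
    have hT := Ref1Lib.isCoh_tensor hF.1 hG.1
    refine intNum_of_map k hdim M hM hF (Ref1Lib.isRef1_ddualTensor hF hG) ι ?_ E fun x hx => ?_
    · obtain ⟨t₀, ht₀⟩ := Ref1Lib.exists_gen_generic hF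
      obtain ⟨u₀, hu₀⟩ := Ref1Lib.exists_gen_generic hG
      obtain ⟨q, hq⟩ := hu₀.2 v
      dsimp only at hq
      have hq0 : q ≠ 0 := fun h0 => hv (by rw [← hq, h0]; exact zero_smul _ _)
      have hgen : FreeGen G (genericPoint X) v := by
        rw [← hq]
        refine (congrArg Function.Bijective (funext fun c => ?_)).mp
          (hu₀.comp (mulRight_bijective₀ (G₀ := X.functionField) q hq0))
        exact mul_smul c q u₀
      have h1 := Ref1Lib.freeGen_tp ht₀ hgen
      have h2 := Ref1Lib.freeGen_map (RefPow.toRefTensor F G) h1 (Ref1Lib.bijective_bidual_of_free hT h1)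
      have hc : (RefHull.stalkMapₗ ι (genericPoint X) : _ → _) ∘ (fun c : X.presheaf.stalk (genericPoint X) => c • t₀) =
          fun c => c • RefHull.stalkMapₗ (RefPow.toRefTensor F G) (genericPoint X) (tp F G _ t₀ v) := funext fun c => by
        show RefHull.stalkMapₗ ι _ (c • t₀) = _
        rw [map_smul, hι, hsη]
      exact (Function.Bijective.of_comp_iff _ ht₀).1 (hc ▸ h2)
    · obtain ⟨t, ht⟩ := Ref1Lib.exists_freeGen hX hF hx
      obtain ⟨u, hu⟩ := Ref1Lib.exists_freeGen hX hG hx
      obtain ⟨g, hg⟩ := hu.2 (RefPowLib.sGerm s x)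
      dsimp only at hg
      have hvs : v = algebraMap (X.presheaf.stalk x) X.functionField g • spec G x u := by
        rw [← spec_smul, hg, hs, spec_germ]
        exact (hσ trivial).symm
      have h1 := Ref1Lib.freeGen_tp ht hu
      refine ⟨t, _, g, ht, Ref1Lib.freeGen_map (RefPow.toRefTensor F G) h1
        (Ref1Lib.bijective_bidual_of_free hT h1), fun h0 => hv ?_, ?_, ?_⟩
      · rw [hvs, h0, map_zero]; exact zero_smul _ _
      · have h2 := Ref1Lib.tp_smul_smul F G x (1 : X.presheaf.stalk x) g t u
        rw [one_smul, one_mul] at h2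
        rw [hι, ← hg, h2, map_smul]
      · rw [← hvE x hx]
        exact Ref1Lib.secOrdAt_free G hx _ hv hu hvs
  -- an effective divisor dominating `-D`
  have hfin := finite_div k hX hF hD
  let E₁ : AlgebraicCycle X ℤ :=
    ⟨fun x => if Order.coheight x = 1 then max (-D x) 0 else 0, fun _ _ => trivial, fun z _ =>
      ⟨Set.univ, Filter.univ_mem, hfin.subset fun x hx => by
        rcases hx with ⟨-, hx⟩
        rw [Function.mem_support] at hx
        split_ifs at hx with h1
        · exact ⟨h1, fun h0 => hx (by rw [h0]; rfl)⟩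
        · exact absurd rfl hx⟩⟩
  obtain ⟨G, hG, s, hs, hsE⟩ := (Groth.Agent.S16087.result X hX).2 E₁ fun x hx => if_neg hx
  obtain ⟨v, rfl⟩ := Submodule.Quotient.mk_surjective _ s
  have hv : v ≠ 0 := fun h => hs (by rw [h]; rfl)
  have hGE : HasDiv G E₁ := ⟨v, hv, fun x hx => (hsE x hx).symm⟩
  have hE₁ : ∀ x : X, Order.coheight x = 1 → E₁ x = max (-D x) 0 := fun x hx => if_pos hx
  have h1 := step hF hG hGE fun x hx => by rw [hE₁ x hx]; exact le_max_right _ _
  have hF' := Ref1Lib.isRef1_ddualTensor hF hG
  have hF'D := Ref1Lib.hasDiv_ddualTensor hX hF hG hD hGE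
  have hpos : ∀ x : X, Order.coheight x = 1 → 0 ≤ (D + ⇑E₁) x := fun x hx => by
    rw [Pi.add_apply, hE₁ x hx]
    omega
  have h2 := step (F := Coh.structureModule X) Ref1Lib.isRef1_unit hF' hF'D hpos
  obtain ⟨e⟩ := Ref1Lib.nonempty_iso_of_hasDiv hX
    (Ref1Lib.isRef1_ddualTensor Ref1Lib.isRef1_unit hF') hF'
    (Ref1Lib.hasDiv_ddualTensor hX Ref1Lib.isRef1_unit hF' Ref1Lib.hasDiv_unit hF'D)
    (D := (fun _ => 0) + (D + ⇑E₁)) (by rw [show ((fun _ => 0) + (D + ⇑E₁) : X → ℤ) = D + ⇑E₁ from zero_add _]; exact hF'D)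
  rw [show FGA.intNum k X (r + 1) M (RefPow.refTensor (Coh.structureModule X)
      (RefHull.ddual (CohB1.tensorMod F G))) = FGA.intNum k X (r + 1) M (RefPow.refTensor F G) from
    HilbPolyLib.intNum_congr hdim.le M e, h1, num_add k M _ hfin (finite_div k hX hG hGE)] at h2
  linarith

end RefNumLib

end
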